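import Groth.Agent.S14828
import Groth.Agent.S14810
import Groth.Agent.S14818
import Groth.Agent.S1617
import Groth.Agent.NumTrivLib.Num
import Groth.Agent.VarDimLib.Basic
import Groth.Agent.CubeConsLib.IsoCls
import Groth.Agent.ProjFormLib.Proj
import Groth.Agent.AmpleDevLib.Pull
import Groth.Agent.TwistLib.PullGen

/-!
# Finite order of a numerically trivial dualizing sheaf fibred by a divisor
-/

set_option autoImplicit false
set_option linter.style.haveILetI false
set_option backward.isDefEq.respectTransparency false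
set_option backward.isDefEq.respectTransparency.types false
set_option maxHeartbeats 1000000
universe u

open CategoryTheory CategoryTheory.Limits AlgebraicGeometry TopologicalSpace Opposite
open AmpleLib AmpleThLib
open KFlatLib (pb puSec)
open CubeConsLib (cl cl_eq_iff cl_eq_one_iff cl_tensor pull pull_cl pull_comp)

noncomputable section

namespace DivFibLib

variable {X : Scheme.{u}}

theorem cl_pow (L : X.Modules) : ∀ m : ℕ, cl (CohB1.tensorPow L m) = cl L ^ m
  | 0 => (pow_zero _).symm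
  | m + 1 => by rw [pow_succ, ← cl_pow L m]; rfl

/-- Modules from below are detected after pullback when `f_* O = O`. -/
theorem reflect_trivial {X Y : Scheme.{u}} (f : X ⟶ Y) (happ : ∀ U : Y.Opens, IsIso (f.app U))
    {A : Y.Modules} (hA : PicF.IsInvertible A) (h : Nonempty (pb f A ≅ Coh.structureModule X)) :
    Nonempty (A ≅ Coh.structureModule Y) := by
  have hbij : ∀ U : Y.Opens, Function.Bijective (f.app U) := fun U =>
    haveI := happ U; ConcreteCategory.bijective_of_isIso (f.app U)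
  have key : ∀ {B : Y.Modules}, PicF.IsInvertible B →
      IsIso ((Scheme.Modules.pullbackPushforwardAdjunction f).unit.app B) := fun {B} hB => by
    refine ProjFormLib.isIso_of_sections _ fun x => ?_
    obtain ⟨U, e, hxU, he⟩ := TwistLib.exists_genOn hB x
    refine ⟨U, hxU, fun V hV => ?_⟩
    have h1 := he V hV
    have h2 : Function.Bijective (fun r : Γ(X, f ⁻¹ᵁ V) => r • puSec f (res B hV e)) := by
      have hp := AmpleDevLib.puSec_genOn f he
      have h := hp (f ⁻¹ᵁ V) (f.preimage_mono hV)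
      rwa [← TwistLib.puSec_res f hV e] at h
    refine (Function.Bijective.of_comp_iff _ h1).1 ?_
    refine (congrArg Function.Bijective (funext fun r : Γ(Y, V) => ?_)).mpr (h2.comp (hbij V))
    exact TwistLib.puSec_smul f r (res B hV e)
  haveI := key hA
  haveI := key (CurvLib.isInvertible_structureModule (X := Y))
  obtain ⟨t⟩ := h
  exact ⟨asIso ((Scheme.Modules.pullbackPushforwardAdjunction f).unit.app A) ≪≫
    (Scheme.Modules.pushforward f).mapIso (t ≪≫ (KFlatLib.pullUnitIso f).symm) ≪≫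
    (asIso ((Scheme.Modules.pullbackPushforwardAdjunction f).unit.app (Coh.structureModule Y))).symm⟩

theorem main (k : Type u) [Field k]
    (X : Scheme.{u}) [X.Over (Spec (CommRingCat.of k))] [IsProper (X ↘ Spec (CommRingCat.of k))] [IsIntegral X] (n : ℕ) (hn : topologicalKrullDim ↥X = n)
    (hCM : ∀ x : X, LocCoh.IsCohenMacaulayLocalRing (X.presheaf.stalk x))
    (ωX : X.Modules) (trX : Coh.HH X ωX n →ₗ[k] k) (hωX : Canon.IsRDualOver k X n ωX trX) (hωXinv : PicF.IsInvertible ωX)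
    (hnum : Pic13.IsNumEquivZero k X ωX)
    (D : Scheme.{u}) (i : D ⟶ X) [IsClosedImmersion i] [IsIntegral D] (hI : PicF.IsInvertible (ClSub.idealMod i.ker))
    (OD : X.Modules) (hOD : ClSub.IsInverseOf OD (ClSub.idealMod i.ker))
    (Y : Scheme.{u}) [Y.Over (Spec (CommRingCat.of k))] [IsProper (Y ↘ Spec (CommRingCat.of k))] (f : X ⟶ Y) [Surjective f]
    (m₁ m₂ m₃ : ℕ) (hm₁ : 0 < m₁) (hm₂ : 0 < m₂) (hm₃ : 0 < m₃)
    (N : Y.Modules) (hN : PicF.IsInvertible N) (hii : Nonempty (CohB1.tensorPow ωX m₃ ≅ (Scheme.Modules.pullback f).obj N))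
    (Z : Scheme.{u}) (α : D ⟶ Z) (β : Z ⟶ Y) (hαβ : α ≫ β = i ≫ f) (hα : ∀ V : Z.Opens, IsIso (α.app V))
    (r : ℕ) (hβ : Mor2.IsFinLocFreeOfDeg r β) [D.Over (Spec (CommRingCat.of k))]
    (hDX : i ≫ (X ↘ Spec (CommRingCat.of k)) = D ↘ Spec (CommRingCat.of k))
    (ωD : D.Modules) (hωD : Nonempty (ωD ≅ (Scheme.Modules.pullback i).obj (CohB1.tensorMod OD ωX)))
    (h₁ : Nonempty (CohB1.tensorPow ωD m₁ ≅ Coh.structureModule D))
    (s : Coh.structureModule D ⟶ CohB1.tensorPow ((Scheme.Modules.pullback i).obj OD) m₂) (hs : s ≠ 0) :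
    Nonempty (CohB1.tensorPow ωX (r * Nat.lcm m₁ (Nat.lcm m₂ m₃)) ≅ Coh.structureModule X) := by
  haveI : IsProper (D ↘ Spec (CommRingCat.of k)) := hDX ▸ inferInstance
  let m := Nat.lcm m₁ (Nat.lcm m₂ m₃)
  have hm : 0 < m := Nat.lcm_pos hm₁ (Nat.lcm_pos hm₂ hm₃)
  obtain ⟨a₁, e₁⟩ : m₁ ∣ m := Nat.dvd_lcm_left _ _
  obtain ⟨a₂, e₂⟩ : m₂ ∣ m := (Nat.dvd_lcm_left _ _).trans (Nat.dvd_lcm_right _ _)
  obtain ⟨a₃, e₃⟩ : m₃ ∣ m := (Nat.dvd_lcm_right _ _).trans (Nat.dvd_lcm_right _ _)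
  let W := (Scheme.Modules.pullback i).obj ωX
  let O := (Scheme.Modules.pullback i).obj OD
  have hW : PicF.IsInvertible W := AmpleDevLib.isInvertible_pb i hωXinv
  have hODi : PicF.IsInvertible OD := by
    obtain ⟨φ⟩ := hOD
    exact IntMultLib.isInvertible_of_inverse hI (HilbPolyLib.swapIso _ _ ≪≫ φ)
  have hO : PicF.IsInvertible O := AmpleDevLib.isInvertible_pb i hODi
  have hWnum : Pic13.IsNumEquivZero k D W := fun C j hj hC hdim => by
    haveI := hj
    have h := hnum C (j ≫ i) hC hdim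
    rw [Category.assoc, hDX] at h
    refine Eq.trans ?_ h
    have ec : (Scheme.Modules.pullback j).obj W ≅ (Scheme.Modules.pullback (j ≫ i)).obj ωX := (Scheme.Modules.pullbackComp j i).app ωX
    letI : C.Over (Spec (CommRingCat.of k)) := ⟨j ≫ (D ↘ Spec (CommRingCat.of k))⟩
    unfold Pic13.curveDeg FGA.eulerCharLE
    congr 1
    refine Finset.sum_congr rfl fun q _ => ?_
    rw [(CurvLib.hIso (k := k) ec q).finrank_eq]
  have hP : NumTrivLib.NT k (CohB1.tensorPow W m) := (NumTrivLib.NT.of_isNumEquivZero hW hWnum).pow m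
  have hOW : cl O ^ m * cl W ^ m = 1 := by
    obtain ⟨eD⟩ := hωD
    have h := cl_eq_one_iff.2 h₁
    rw [cl_pow, cl_eq_iff.2 ⟨eD⟩, ← pull_cl, cl_tensor, map_mul] at h
    rw [← mul_pow, e₁, pow_mul]
    exact (congrArg (· ^ a₁) h).trans (one_pow _)
  obtain ⟨ePQ⟩ := cl_eq_one_iff.1 (show cl (CohB1.tensorMod (CohB1.tensorPow W m) (CohB1.tensorPow O m)) = 1 by
    rw [cl_tensor, cl_pow, cl_pow, mul_comm, hOW])
  have hQ := hP.inverse ePQ
  have hO2 : NumTrivLib.NT k (CohB1.tensorPow O m₂) := by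
    refine ⟨AmpleThLib.tensorPow_isInvertible hO m₂, fun C hi hC => ?_⟩
    have h := hQ.deg C hi hC
    rw [e₂] at h
    obtain ⟨eo⟩ := cl_eq_iff.1 (show cl (CohB1.tensorPow O (m₂ * a₂)) = cl (CohB1.tensorPow (CohB1.tensorPow O m₂) a₂) by
      rw [cl_pow, cl_pow, cl_pow, pow_mul])
    rw [IntFunLib.cd_congr eo, IntFunLib.cd_pow (AmpleThLib.tensorPow_isInvertible hO m₂) hC] at h
    have ha : (a₂ : ℤ) ≠ 0 := by
      intro h0
      rw [Int.natCast_eq_zero] at h0
      rw [h0, mul_zero] at e₂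
      omega
    exact (mul_eq_zero.mp h).resolve_left ha
  haveI : UniversallyClosed (D ↘ Spec (CommRingCat.of k)) := inferInstance
  obtain ⟨t⟩ := Groth.Agent.S14810.result k D
    (isField_of_universallyClosed k (D ↘ Spec (CommRingCat.of k))) _ hO2.inv hO2.isNumEquivZero s hs
  have hOm : cl O ^ m = 1 := by rw [e₂, pow_mul, ← cl_pow, cl_eq_one_iff.2 ⟨t⟩, one_pow]
  have hWm : cl W ^ m = 1 := by rw [← one_mul (cl W ^ m), ← hOm, hOW, hOm]
  let N' := CohB1.tensorPow N a₃
  have hN' : PicF.IsInvertible N' := AmpleThLib.tensorPow_isInvertible hN a₃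
  have hf' : pull f (cl N') = cl ωX ^ m := by
    rw [cl_pow, map_pow, pull_cl, ← cl_eq_iff.2 hii, cl_pow, ← pow_mul, ← e₃]
  have hZ : Nonempty (pb α (pb β N') ≅ Coh.structureModule D) := cl_eq_one_iff.1 (by
    show cl ((Scheme.Modules.pullback α).obj ((Scheme.Modules.pullback β).obj N')) = 1
    rw [← pull_cl, ← pull_cl, pull_comp, hαβ, ← pull_comp, hf', map_pow]
    exact hWm)
  have hZ' := reflect_trivial α hα (AmpleDevLib.isInvertible_pb β hN') hZ
  haveI : IsLocallyNoetherian Y := LocallyOfFiniteType.isLocallyNoetherian (Y ↘ Spec (CommRingCat.of k))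
  haveI : ConnectedSpace Y := f.surjective.connectedSpace f.continuous
  obtain ⟨tY⟩ := Groth.Agent.S14818.result Y Z β r hβ N' hN' hZ'
  refine cl_eq_one_iff.1 ?_
  show cl (CohB1.tensorPow ωX (r * m)) = 1
  rw [cl_pow, mul_comm, pow_mul, ← hf', ← map_pow, ← cl_pow, cl_eq_one_iff.2 ⟨tY⟩, map_one]

theorem heq_of_integral (k : Type u) [Field k] (X : Scheme.{u}) [X.Over (Spec (CommRingCat.of k))]
    [LocallyOfFiniteType (X ↘ Spec (CommRingCat.of k))] [IsIntegral X] (x : X) (hx : IsClosed ({x} : Set X)) :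
    ringKrullDim (X.presheaf.stalk x) = topologicalKrullDim X := by
  rw [← Groth.Agent.S1617.result k X x hx]
  refine le_antisymm (iInf_le_of_le ⟨⊤, trivial⟩ ?_) (le_iInf fun U => ?_)
  · exact (VarDimLib.dim_open_eq (X ↘ Spec (CommRingCat.of k)) ⊤ ⟨x, trivial⟩).le
  · exact (VarDimLib.dim_open_eq (X ↘ Spec (CommRingCat.of k)) U.1 ⟨x, U.2⟩).ge

end DivFibLib
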